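import Cfsg.Agent.Lib.RealOdd.Clifford
import Cfsg.Agent.Lib.RealDegree.Main
import Cfsg.Agent.Lib.PSolvable.Core
import Cfsg.Agent.Lib.PSolvable.Omega
import Cfsg.Agent.Lib.Char.Extraspecial

/-!
# Group theoretic lemmas: transfer, images of normalizers, fixed points under coprime action
-/

set_option autoImplicit false
set_option linter.unusedSectionVars false
set_option linter.style.haveILetI false

namespace CfsgLib.RealOdd

open Cfsg CfsgLib.Char
open scoped Pointwise

/-- The condition on a Sylow two-subgroup. -/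
def Cond {G : Type*} [Group G] (P : Sylow 2 G) : Prop :=
  Subgroup.normalizer ((P : Subgroup G) : Set G) = (P : Subgroup G) ∧
    ∀ x : (P : Subgroup G), x * x ∈ commutator (P : Subgroup G)

variable {G : Type*} [Group G]

/-- An invariant linear character with values `±1` of a normal subgroup extends with such values,
if it does so to a subgroup of odd index. -/
theorem realExt_of_odd_index [Finite G] (V : Subgroup G) [V.Normal] (P : Subgroup G) (hVP : V ≤ P)
    (hodd : Odd P.index) (c : V →* ℂˣ)
    (hinv : ∀ (g : G) (v w : V), (w : G) = g * (v : G) * g⁻¹ → c w = c v)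
    (hc : ∀ v, c v * c v = 1) (φ : P →* ℂˣ) (hφ : ∀ u, φ u * φ u = 1)
    (hφV : ∀ v : V, φ ⟨(v : G), hVP v.2⟩ = c v) : RealExt V c := by
  classical
  let A : Subgroup ℂˣ := rootsOfUnity 2 ℂ
  have hmem : ∀ u, φ u ∈ A := fun u => (mem_rootsOfUnity 2 (φ u)).mpr (by rw [pow_two]; exact hφ u)
  let ψ : P →* A := φ.codRestrict A hmem
  refine ⟨A.subtype.comp (MonoidHom.transfer ψ), fun g => ?_, fun v => ?_⟩
  · have h := (mem_rootsOfUnity 2 _).mp (MonoidHom.transfer ψ g).2
    rw [pow_two] at h
    exact h
  · let T : P.LeftTransversal :=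
      ⟨Set.range (fun q : G ⧸ P => q.out), Subgroup.isComplement_range_left Quotient.out_eq'⟩
    have hα : ∀ q : G ⧸ P, (T.2.leftQuotientEquiv q : G) = q.out := fun q =>
      Subgroup.IsComplement.leftQuotientEquiv_apply Quotient.out_eq' q
    have hn : V.Normal := inferInstance
    have hconj : ∀ a : G, a⁻¹ * (v : G) * a ∈ V := fun a => by
      simpa using hn.conj_mem _ v.2 a⁻¹
    have hfix : ∀ q : G ⧸ P, (v : G)⁻¹ • q = q := by
      intro q
      induction q using QuotientGroup.induction_on with
      | H a =>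
        rw [MulAction.Quotient.smul_mk, smul_eq_mul, QuotientGroup.eq]
        have h := hVP (hconj a)
        rwa [show ((v : G)⁻¹ * a)⁻¹ * a = a⁻¹ * (v : G) * a by group]
    let v0 : A := ⟨c v, (mem_rootsOfUnity 2 (c v)).mpr (by rw [pow_two]; exact hc v)⟩
    have h1 : MonoidHom.transfer ψ (v : G) = v0 ^ P.index := by
      haveI : Fintype (G ⧸ P) := Fintype.ofFinite _
      rw [MonoidHom.transfer_def ψ T (v : G)]
      unfold Subgroup.leftTransversals.diff
      rw [Subgroup.index_eq_card, Nat.card_eq_fintype_card, ← Finset.card_univ]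
      refine (Finset.prod_congr (Finset.ext fun q => by simp) fun q _ => ?_).trans
        (Finset.prod_const v0)
      have hu : q.out⁻¹ * (v : G) * q.out ∈ P := hVP (hconj _)
      refine Eq.trans (congrArg ψ (Subtype.ext (a2 := (⟨_, hu⟩ : P)) ?_)) (Subtype.ext ?_)
      · change (T.2.leftQuotientEquiv q : G)⁻¹ *
          (((v : G) • T).2.leftQuotientEquiv q : G) = q.out⁻¹ * (v : G) * q.out
        rw [Subgroup.smul_apply_eq_smul_apply_inv_smul, hfix, hα, smul_eq_mul, mul_assoc]
      · show φ ⟨_, hu⟩ = c v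
        exact (hφV ⟨_, hconj q.out⟩).trans (hinv q.out⁻¹ v _ (by simp))
    show ((MonoidHom.transfer ψ (v : G) : A) : ℂˣ) = c v
    rw [h1, pow_odd_of_sq (Subtype.ext (hc v)) hodd]

theorem map_normalizer_of_ker_le {Q : Type*} [Group Q] (f : G →* Q) (hf : Function.Surjective f)
    (P : Subgroup G) (h : f.ker ≤ P) :
    (Subgroup.normalizer (P : Set G)).map f =
      Subgroup.normalizer ((P.map f : Subgroup Q) : Set Q) := by
  have h1 := Subgroup.comap_normalizer_eq_of_surjective (P.map f) hf
  rw [Subgroup.comap_map_eq_self h] at h1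
  rw [← h1, Subgroup.map_comap_eq_self_of_surjective hf]

theorem le_sylow_of_normal {p : ℕ} [Fact p.Prime] (V : Subgroup G) [V.Normal] (hV : IsPGroup p V)
    (P : Sylow p G) : V ≤ (P : Subgroup G) := by
  have h1 : V ⊔ (P : Subgroup G) = (P : Subgroup G) :=
    P.is_maximal' (hV.to_sup_of_normal_left P.isPGroup') le_sup_right
  exact h1 ▸ le_sup_left

theorem sq_commutator_map {A B : Type*} [Group A] [Group B] (f : A →* B)
    (hf : Function.Surjective f) (h : ∀ x : A, x * x ∈ commutator A) :
    ∀ y : B, y * y ∈ commutator B := by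
  intro y
  obtain ⟨x, rfl⟩ := hf y
  rw [← map_mul]
  have h1 : (commutator A).map f ≤ commutator B := by
    rw [commutator_def, Subgroup.map_commutator, commutator_def]
    exact Subgroup.commutator_mono le_top le_top
  exact h1 (Subgroup.mem_map_of_mem f (h x))

/-- Squares lie in the commutator subgroup of a two-group exactly when it is the Frattini
subgroup. -/
theorem sq_iff_frattini [Finite G] (h : IsPGroup 2 G) :
    (∀ x : G, x * x ∈ commutator G) ↔ commutator G = frattini G := by
  haveI : Fact (Nat.Prime 2) := ⟨Nat.prime_two⟩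
  obtain ⟨h1, h2⟩ := PSolvable.commutator_le_frattini h
  refine ⟨fun hx => le_antisymm h1 (Char.Extraspecial.frattini_le_commutator hx), fun he x => ?_⟩
  rw [he, ← pow_two]
  exact h2 x

/-- Squares lie in the commutator subgroup if all linear characters have values `±1`. -/
theorem sq_of_linear [Finite G] (h : ∀ (g : G →* ℂˣ) (x : G), g (x * x) = 1) :
    ∀ x : G, x * x ∈ commutator G := by
  intro x
  by_contra hx
  haveI : Finite (Abelianization G) := Finite.of_surjective _ QuotientGroup.mk_surjective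
  have hne : Abelianization.of (x * x) ≠ 1 := fun e => hx ((QuotientGroup.eq_one_iff _).mp e)
  obtain ⟨f, hf⟩ :=
    CommGroup.exists_apply_ne_one_of_hasEnoughRootsOfUnity (Abelianization G) ℂ hne
  exact hf (h (f.comp Abelianization.of) x)

theorem linear_sq_of_sq (h : ∀ x : G, x * x ∈ commutator G) (g : G →* ℂˣ) (x : G) :
    g x * g x = 1 := by
  rw [← map_mul]
  exact MonoidHom.mem_ker.mp (Abelianization.commutator_subset_ker g (h x))

section Coprime

variable [Finite G] (V : Subgroup G) [V.Normal] (hV : ∀ a ∈ V, ∀ b ∈ V, Commute a b)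
  (P : Subgroup G) (hcop : Nat.Coprime (Nat.card P) (Nat.card V))

include hV hcop

/-- Without fixed points, invariant linear characters are trivial. -/
theorem invariant_trivial (hfix : ∀ v ∈ V, (∀ u ∈ P, u * v * u⁻¹ = v) → v = 1) (θ : V →* ℂˣ)
    (hθ : ∀ u ∈ P, ∀ v w : V, (w : G) = u * (v : G) * u⁻¹ → θ w = θ v) (v : V) : θ v = 1 := by
  classical
  letI : CommGroup V :=
    { (inferInstance : Group V) with mul_comm := fun a b => Subtype.ext (hV a a.2 b b.2).eq }
  haveI := Fintype.ofFinite P
  let c : P → MulAut V := fun u => MulAut.conjNormal (u : G)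
  set w : V := ∏ u : P, c u v with hw
  have h0 : ∀ u : P, c u w = w := by
    intro u
    rw [hw, map_prod]
    refine Fintype.prod_equiv (Equiv.mulLeft u) _ _ fun x => Subtype.ext ?_
    simp only [c, MulAut.conjNormal_apply, Equiv.coe_mulLeft, Subgroup.coe_mul, mul_inv_rev]
    group
  have h1 : (w : G) = 1 := hfix w w.2 fun u hu => by
    have := congrArg Subtype.val (h0 ⟨u, hu⟩)
    simpa [c] using this
  have h2 : θ v ^ Nat.card P = 1 := by
    have h3 : θ w = θ v ^ Nat.card P := by
      rw [hw, map_prod, Nat.card_eq_fintype_card, ← Finset.card_univ, ← Finset.prod_const]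
      exact Finset.prod_congr rfl fun u _ => hθ u u.2 v _ (by simp [c])
    rw [← h3, show w = 1 from Subtype.ext h1, map_one]
  have h4 : θ v ^ Nat.card V = 1 := by rw [← map_pow, pow_card_eq_one', map_one]
  simpa only [hcop.gcd_eq_one, pow_one] using pow_gcd_eq_one.mpr ⟨h2, h4⟩

/-- A fixed point gives an invariant non-trivial linear character. -/
theorem exists_invariant_linear (v0 : V) (hv0 : v0 ≠ 1)
    (hfix : ∀ u ∈ P, u * (v0 : G) * u⁻¹ = v0) :
    ∃ θ : V →* ℂˣ, θ v0 ≠ 1 ∧
      ∀ u ∈ P, ∀ v w : V, (w : G) = u * (v : G) * u⁻¹ → θ w = θ v := by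
  classical
  letI : CommGroup V :=
    { (inferInstance : Group V) with mul_comm := fun a b => Subtype.ext (hV a a.2 b b.2).eq }
  haveI := Fintype.ofFinite P
  obtain ⟨θ0, hθ0⟩ := CommGroup.exists_apply_ne_one_of_hasEnoughRootsOfUnity V ℂ hv0
  let c : P → MulAut V := fun u => MulAut.conjNormal (u : G)
  refine ⟨∏ u : P, θ0.comp (c u).toMonoidHom, fun h => hθ0 ?_, fun u hu v w e => ?_⟩
  · have h2 : θ0 v0 ^ Nat.card P = 1 := by
      rw [← h, MonoidHom.finsetProd_apply, Nat.card_eq_fintype_card, ← Finset.card_univ,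
        ← Finset.prod_const]
      refine Finset.prod_congr rfl fun u _ => congrArg θ0 (Subtype.ext ?_)
      simpa [c] using (hfix u u.2).symm
    have h4 : θ0 v0 ^ Nat.card V = 1 := by rw [← map_pow, pow_card_eq_one', map_one]
    simpa only [hcop.gcd_eq_one, pow_one] using pow_gcd_eq_one.mpr ⟨h2, h4⟩
  · rw [MonoidHom.finsetProd_apply, MonoidHom.finsetProd_apply]
    refine Fintype.prod_equiv (Equiv.mulRight (⟨u, hu⟩ : P)) _ _ fun x => congrArg θ0 (Subtype.ext ?_)
    simp [c, e, mul_assoc]

end Coprime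

/-- Counting by fibres over classes of a set of labels. -/
theorem card_eq_of_fibres {X Y F : Type*} [Finite X] [Finite Y] (r : Setoid F) (C : X → F → Prop)
    (D : Y → F → Prop) (hC : ∀ x, ∃ f, C x f) (hD : ∀ y, ∃ f, D y f)
    (hCr : ∀ x f f', C x f → (C x f' ↔ r f f')) (hDr : ∀ y f f', D y f → (D y f' ↔ r f f'))
    (h : ∀ f, Nat.card {x // C x f} = Nat.card {y // D y f}) : Nat.card X = Nat.card Y := by
  have eX : X ≃ Σ q : Quotient r, {x // C x q.out} :=
    (Equiv.sigmaFiberEquiv fun x => Quotient.mk r (hC x).choose).symm.trans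
      (Equiv.sigmaCongrRight fun q => Equiv.subtypeEquivRight fun x => by
        rw [hCr x _ q.out (hC x).choose_spec]
        exact ⟨fun e => Quotient.exact (e.trans (Quotient.out_eq q).symm),
          fun e => (Quotient.sound e).trans (Quotient.out_eq q)⟩)
  have eY : Y ≃ Σ q : Quotient r, {y // D y q.out} :=
    (Equiv.sigmaFiberEquiv fun y => Quotient.mk r (hD y).choose).symm.trans
      (Equiv.sigmaCongrRight fun q => Equiv.subtypeEquivRight fun y => by
        rw [hDr y _ q.out (hD y).choose_spec]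
        exact ⟨fun e => Quotient.exact (e.trans (Quotient.out_eq q).symm),
          fun e => (Quotient.sound e).trans (Quotient.out_eq q)⟩)
  rw [Nat.card_congr eX, Nat.card_congr eY]
  exact Nat.card_congr (Equiv.sigmaCongrRight fun q => (Finite.card_eq.mp (h q.out)).some)

theorem exists_minimal_normal [Finite G] [Nontrivial G] :
    ∃ V : Subgroup G, V.Normal ∧ V ≠ ⊥ ∧
      ∀ M : Subgroup G, M.Normal → M ≤ V → M = ⊥ ∨ M = V := by
  classical
  haveI := Fintype.ofFinite (Subgroup G)
  obtain ⟨V, hV, hmin⟩ := (Finset.univ.filter fun M : Subgroup G => M.Normal ∧ M ≠ ⊥).exists_min_image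
    (fun M => Nat.card M) ⟨⊤, Finset.mem_filter.mpr ⟨Finset.mem_univ _, inferInstance, top_ne_bot⟩⟩
  obtain ⟨hVn, hV0⟩ := (Finset.mem_filter.mp hV).2
  refine ⟨V, hVn, hV0, fun M hM hMV => or_iff_not_imp_left.mpr fun h0 => ?_⟩
  exact Subgroup.eq_of_le_of_card_ge hMV (hmin M (Finset.mem_filter.mpr ⟨Finset.mem_univ _, hM, h0⟩))

end CfsgLib.RealOdd
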