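import Cfsg.Agent.Lib.RealDegree.Classes
import Cfsg.Agent.Lib.Char.CanonicalExtension
import Cfsg.Agent.Lib.Blocks.Inflate

/-!
# Real valued irreducible characters of odd degree above a quotient
-/

set_option autoImplicit false
set_option linter.unusedSectionVars false
set_option linter.style.haveILetI false

namespace CfsgLib.RealOdd

open Cfsg CfsgLib.Char
open scoped ComplexConjugate CfsgLib.Char

variable {G : Type*} [Group G]

/-- A real valued irreducible character of odd degree. -/
def RO (χ : IrrCharacter G) : Prop :=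
  (∀ g : G, ((χ : G → ℂ) g).im = 0) ∧ Odd (charDegree (χ : G → ℂ))

/-- The number of real valued irreducible characters of odd degree. -/
noncomputable def roCount (G : Type*) [Group G] : ℕ := Nat.card {χ : IrrCharacter G // RO χ}

/-- All irreducible characters of odd degree are real valued. -/
def AllReal (G : Type*) [Group G] : Prop :=
  ∀ χ : IrrCharacter G, Odd (charDegree (χ : G → ℂ)) → ∀ g : G, ((χ : G → ℂ) g).im = 0

/-- The character restricts to a multiple of `c`. -/
def Over (K : Subgroup G) (c : K →* ℂˣ) (χ : IrrCharacter G) : Prop :=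
  ∀ k : K, (χ : G → ℂ) (k : G) = (χ : G → ℂ) 1 * ((c k : ℂˣ) : ℂ)

/-- A linear character with values `±1` extending `c`. -/
def RealExt (K : Subgroup G) (c : K →* ℂˣ) : Prop :=
  ∃ μ : G →* ℂˣ, (∀ g, μ g * μ g = 1) ∧ ∀ k : K, μ (k : G) = c k

theorem deg_eq [Finite G] (χ : IrrCharacter G) :
    (χ : G → ℂ) 1 = (charDegree (χ : G → ℂ) : ℂ) := by
  haveI := Fintype.ofFinite G
  obtain ⟨d, -, hd⟩ := exists_nat_degree_irr χ.2
  rw [hd, RealDegree.charDegree_of_eq hd]

theorem charDegree_congr {H : Type*} [Group H] {χ : G → ℂ} {ψ : H → ℂ} (h : χ 1 = ψ 1) :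
    charDegree χ = charDegree ψ := by unfold charDegree; rw [h]

theorem sq_eq_one_cases {z : ℂˣ} (h : z * z = 1) : (z : ℂ) = 1 ∨ (z : ℂ) = -1 :=
  mul_self_eq_one_iff.mp (by rw [← Units.val_mul, h, Units.val_one])

theorem conj_sq_eq_one {z : ℂˣ} (h : z * z = 1) : conj (z : ℂ) = z := by
  rcases sq_eq_one_cases h with e | e <;> rw [e] <;> simp

/-- Multiplication by a linear character with values `±1`. -/
noncomputable def twist [Fintype G] (μ : G →* ℂˣ) (h : ∀ g, μ g * μ g = 1) :
    IrrCharacter G ≃ IrrCharacter G :=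
  Function.Involutive.toPerm
    (fun χ => ⟨fun g => (μ g : ℂ) * (χ : G → ℂ) g, isIrrCharacter_linear_mul χ.2 μ⟩)
    (fun χ => Subtype.ext (funext fun g => by
      show (μ g : ℂ) * ((μ g : ℂ) * (χ : G → ℂ) g) = _
      rw [← mul_assoc, ← Units.val_mul, h, Units.val_one, one_mul]))

theorem twist_apply [Fintype G] (μ : G →* ℂˣ) (h : ∀ g, μ g * μ g = 1) (χ : IrrCharacter G)
    (g : G) : (twist μ h χ : G → ℂ) g = (μ g : ℂ) * (χ : G → ℂ) g := rfl

theorem twist_deg [Fintype G] (μ : G →* ℂˣ) (h : ∀ g, μ g * μ g = 1) (χ : IrrCharacter G) :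
    charDegree (twist μ h χ : G → ℂ) = charDegree (χ : G → ℂ) :=
  charDegree_congr (by rw [twist_apply, map_one, Units.val_one, one_mul])

theorem twist_real_iff [Fintype G] (μ : G →* ℂˣ) (h : ∀ g, μ g * μ g = 1) (χ : IrrCharacter G) :
    (∀ g, ((twist μ h χ : G → ℂ) g).im = 0) ↔ ∀ g, ((χ : G → ℂ) g).im = 0 := by
  refine forall_congr' fun g => ?_
  rw [twist_apply]
  rcases sq_eq_one_cases (h g) with e | e <;> simp [e]

theorem twist_ro_iff [Fintype G] (μ : G →* ℂˣ) (h : ∀ g, μ g * μ g = 1) (χ : IrrCharacter G) :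
    RO (twist μ h χ) ↔ RO χ := by
  unfold RO; rw [twist_real_iff, twist_deg]

theorem twist_over_iff [Fintype G] (μ : G →* ℂˣ) (h : ∀ g, μ g * μ g = 1) (K : Subgroup G)
    (c : K →* ℂˣ) (hc : ∀ k : K, μ (k : G) = c k) (χ : IrrCharacter G) :
    Over K 1 (twist μ h χ) ↔ Over K c χ := by
  refine forall_congr' fun k => ?_
  simp only [twist_apply, map_one, Units.val_one, one_mul, mul_one, hc k, MonoidHom.one_apply]
  rw [← hc k]
  rcases sq_eq_one_cases (h (k : G)) with e | e <;> rw [e]
  · simp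
  · constructor <;> intro h1 <;> linear_combination (-1 : ℂ) * h1

/-! ### The determinant -/

/-- The determinant of a character above `c` restricts to a power of `c`. -/
theorem det_over [Finite G] (K : Subgroup G) (c : K →* ℂˣ) (χ : IrrCharacter G) (hχ : Over K c χ)
    (f : G →* ℂˣ) (hf : detChar (χ : G → ℂ) = fun g => (f g : ℂ)) (k : K) :
    f (k : G) = c k ^ charDegree (χ : G → ℂ) := by
  classical
  set d := charDegree (χ : G → ℂ) with hd
  let σ : Representation ℂ K (Fin d → ℂ) := 1
  have h1 : (fun m : K => (χ : G → ℂ) m) = fun m => (c m : ℂ) * σ.character m := by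
    funext m
    have e : σ.character m = (d : ℂ) := by
      show LinearMap.trace ℂ _ (1 : Module.End ℂ (Fin d → ℂ)) = _
      rw [LinearMap.trace_one, Module.finrank_fin_fun]
    rw [e, hχ m, deg_eq χ, mul_comm]
  have hσd : σ.character 1 = (d : ℂ) := by rw [Representation.char_one, Module.finrank_fin_fun]
  have h2 := detChar_restrict K (isCharacter_of_isIrr χ.2) k
  rw [h1, detChar_linear_mul (isCharacter_character σ) c d hσd, detChar_character, hf] at h2
  refine Units.ext ?_
  have e : ((detHom σ k : ℂˣ) : ℂ) = 1 := by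
    rw [detHom_apply]
    show LinearMap.det (1 : Module.End ℂ (Fin d → ℂ)) = 1
    rw [map_one]
  simp only [e, mul_one] at h2
  rw [Units.val_pow_eq_pow_val]
  exact h2.symm

/-- The determinant of a real valued character has values `±1`. -/
theorem det_sq [Finite G] (χ : IrrCharacter G) (hr : ∀ g, ((χ : G → ℂ) g).im = 0)
    (f : G →* ℂˣ) (hf : detChar (χ : G → ℂ) = fun g => (f g : ℂ)) (g : G) : f g * f g = 1 := by
  have hk := (RealDegree.twisting_neg_one G).coprime
  have h1 := detChar_pow (isCharacter_of_isIrr χ.2) hk g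
  have h2 : (fun x => (χ : G → ℂ) (x ^ (Nat.card G - 1))) = (χ : G → ℂ) :=
    funext fun x => (RealDegree.im_zero_iff χ).mp hr x
  rw [h2, hf] at h1
  have h3 : f g = f g ^ (Nat.card G - 1) := Units.ext (by
    rw [Units.val_pow_eq_pow_val]; exact h1)
  nth_rw 2 [h3]
  rw [← map_pow, ← map_mul, ← pow_succ', Nat.sub_add_cancel Nat.card_pos, pow_card_eq_one',
    map_one]

theorem pow_odd_of_sq {M : Type*} [Monoid M] {x : M} (hx : x * x = 1) {d : ℕ} (hd : Odd d) :
    x ^ d = x := by
  obtain ⟨m, rfl⟩ := hd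
  rw [pow_succ, pow_mul, pow_two, hx, one_pow, one_mul]

/-- A real character of odd degree above `c` gives an extension of `c` with values `±1`. -/
theorem realExt_of_ro [Finite G] (K : Subgroup G) (c : K →* ℂˣ) (hc : ∀ k, c k * c k = 1)
    (χ : IrrCharacter G) (hχ : RO χ) (hov : Over K c χ) : RealExt K c := by
  obtain ⟨f, hf⟩ := exists_det_hom (isCharacter_of_isIrr χ.2)
  exact ⟨f, det_sq χ hχ.1 f hf,
    fun k => by rw [det_over K c χ hov f hf k, pow_odd_of_sq (hc k) hχ.2]⟩

/-! ### The quotient -/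

variable {Q : Type*} [Group Q]

theorem inflate_ro_iff (f : G →* Q) (hf : Function.Surjective f) (η : IrrCharacter Q) :
    RO (Blocks.inflate f hf η) ↔ RO η := by
  refine and_congr ⟨fun h q => ?_, fun h g => h (f g)⟩ ?_
  · obtain ⟨g, rfl⟩ := hf q
    exact h g
  · rw [charDegree_congr (show ((Blocks.inflate f hf η : IrrCharacter G) : G → ℂ) 1 =
      (η : Q → ℂ) 1 by show (η : Q → ℂ) (f 1) = _; rw [map_one])]

/-- The characters with `K` in their kernel are those of the quotient. -/
theorem exists_inflate [Finite G] (f : G →* Q) (hf : Function.Surjective f) (K : Subgroup G)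
    (hK : f.ker = K) (χ : IrrCharacter G) (hχ : Over K 1 χ) :
    ∃ η : IrrCharacter Q, χ = Blocks.inflate f hf η := by
  obtain ⟨η, hη⟩ := Blocks.exists_inflate_eq_of_ker f.ker χ fun u hu => by
    have := hχ ⟨u, hK ▸ hu⟩
    simpa using this
  let e : G ⧸ f.ker ≃* Q := QuotientGroup.quotientKerEquivOfSurjective f hf
  refine ⟨⟨fun q => (η : G ⧸ f.ker → ℂ) (e.symm q), isIrrCharacter_comp_mulEquiv e.symm η.2⟩, ?_⟩
  rw [hη]
  refine Subtype.ext (funext fun g => ?_)
  show (η : G ⧸ f.ker → ℂ) (g : G ⧸ f.ker) = (η : G ⧸ f.ker → ℂ) (e.symm (f g))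
  rw [show e.symm (f g) = (g : G ⧸ f.ker) from e.symm_apply_eq.mpr rfl]

theorem inflate_over (f : G →* Q) (hf : Function.Surjective f) (K : Subgroup G)
    (hK : f.ker = K) (η : IrrCharacter Q) : Over K 1 (Blocks.inflate f hf η) := by
  intro k
  show (η : Q → ℂ) (f k) = (η : Q → ℂ) (f 1) * _
  rw [show f (k : G) = 1 from MonoidHom.mem_ker.mp (hK ▸ k.2), map_one, MonoidHom.one_apply,
    Units.val_one, mul_one]

theorem count_kernel [Finite G] (f : G →* Q) (hf : Function.Surjective f) (K : Subgroup G)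
    (hK : f.ker = K) :
    Nat.card {χ : IrrCharacter G // RO χ ∧ Over K 1 χ} = roCount Q := by
  refine (Nat.card_congr (Equiv.ofBijective
    (fun η : {η : IrrCharacter Q // RO η} =>
      (⟨Blocks.inflate f hf η.1, (inflate_ro_iff f hf η.1).mpr η.2, inflate_over f hf K hK η.1⟩ :
        {χ : IrrCharacter G // RO χ ∧ Over K 1 χ})) ⟨?_, ?_⟩)).symm
  · intro a b h
    exact Subtype.ext (Blocks.inflate_injective f hf (congrArg Subtype.val h))
  · rintro ⟨χ, h1, h2⟩
    obtain ⟨η, rfl⟩ := exists_inflate f hf K hK χ h2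
    exact ⟨⟨η, (inflate_ro_iff f hf η).mp h1⟩, rfl⟩

/-- Above `c` there are as many real characters of odd degree as in the quotient, or none. -/
theorem count_over [Finite G] (f : G →* Q) (hf : Function.Surjective f) (K : Subgroup G)
    (hK : f.ker = K) (c : K →* ℂˣ) (hc : ∀ k, c k * c k = 1) [Decidable (RealExt K c)] :
    Nat.card {χ : IrrCharacter G // RO χ ∧ Over K c χ} =
      if RealExt K c then roCount Q else 0 := by
  haveI := Fintype.ofFinite G
  split_ifs with h
  · obtain ⟨μ, hμ, hμc⟩ := h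
    rw [← count_kernel f hf K hK]
    exact Nat.card_congr (Equiv.subtypeEquiv (twist μ hμ) fun χ => by
      rw [twist_ro_iff, twist_over_iff μ hμ K c hμc])
  · haveI : IsEmpty {χ : IrrCharacter G // RO χ ∧ Over K c χ} :=
      ⟨fun x => h (realExt_of_ro K c hc x.1 x.2.1 x.2.2)⟩
    exact Nat.card_of_isEmpty

/-- If the quotient has only real characters of odd degree, so has the set above `c`. -/
theorem real_over [Finite G] (f : G →* Q) (hf : Function.Surjective f) (K : Subgroup G)
    (hK : f.ker = K) (c : K →* ℂˣ) (hext : RealExt K c) (hQ : AllReal Q) (χ : IrrCharacter G)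
    (hd : Odd (charDegree (χ : G → ℂ))) (hov : Over K c χ) :
    ∀ g : G, ((χ : G → ℂ) g).im = 0 := by
  haveI := Fintype.ofFinite G
  obtain ⟨μ, hμ, hμc⟩ := hext
  obtain ⟨η, hη⟩ := exists_inflate f hf K hK _ ((twist_over_iff μ hμ K c hμc χ).mpr hov)
  rw [← twist_real_iff μ hμ χ, hη]
  refine fun g => hQ η ?_ (f g)
  rw [← charDegree_congr (show ((Blocks.inflate f hf η : IrrCharacter G) : G → ℂ) 1 =
      (η : Q → ℂ) 1 by show (η : Q → ℂ) (f 1) = _; rw [map_one]), ← hη, twist_deg]
  exact hd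

theorem allReal_of_surjective (f : G →* Q) (hf : Function.Surjective f) (h : AllReal G) :
    AllReal Q := by
  intro η hd q
  obtain ⟨g, rfl⟩ := hf q
  refine h (Blocks.inflate f hf η) ?_ g
  rw [charDegree_congr (show ((Blocks.inflate f hf η : IrrCharacter G) : G → ℂ) 1 =
      (η : Q → ℂ) 1 by show (η : Q → ℂ) (f 1) = _; rw [map_one])]
  exact hd

theorem roCount_congr [Finite G] (f : G →* Q) (hf : Function.Bijective f) :
    roCount G = roCount Q := by
  rw [← count_kernel f hf.2 ⊥ ((MonoidHom.ker_eq_bot_iff f).mpr hf.1)]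
  refine Nat.card_congr (Equiv.subtypeEquivRight fun χ => ⟨fun h => ⟨h, fun k => ?_⟩, And.left⟩)
  rw [Subsingleton.elim k 1]
  simp

end CfsgLib.RealOdd
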