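import Cfsg.Agent.Lib.RealOdd.Basic

/-!
# Constituents of characters of odd degree and the correspondence above the inertia group
-/

set_option autoImplicit false
set_option linter.unusedSectionVars false
set_option linter.style.haveILetI false

namespace CfsgLib.RealOdd

open Cfsg CfsgLib.Char
open scoped ComplexConjugate CfsgLib.Char Pointwise

variable {G : Type*} [Group G] [Fintype G]

/-- Real functions have real inner products with real functions. -/
theorem classInner_conj {φ θ : G → ℂ} :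
    classInner (fun g => conj (φ g)) (fun g => conj (θ g)) = conj (classInner φ θ) := by
  simp only [classInner, map_mul, map_sum, map_inv₀, map_natCast]

/-- The conjugate of an induced function. -/
theorem indFun_conj (T : Subgroup G) (ψ : T → ℂ) (g : G) :
    indFun T (fun t => conj (ψ t)) g = conj (indFun T ψ g) := by
  simp only [indFun, map_mul, map_inv₀, map_natCast, map_sum]
  congr 1
  refine Finset.sum_congr rfl fun x _ => ?_
  by_cases hx : x⁻¹ * g * x ∈ T
  · rw [extendByZero_mem T _ hx, extendByZero_mem T _ hx]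
  · rw [extendByZero_notMem T _ hx, extendByZero_notMem T _ hx, map_zero]

/-- A linear function is a constituent exactly when the character lies above it. -/
theorem over_iff (V T : Subgroup G) [V.Normal] [Fintype V] [Fintype T] (hVT : V ≤ T)
    (l : V →* ℂˣ) (hinv : ∀ g ∈ T, conjBy V (fun v => (l v : ℂ)) g = fun v => (l v : ℂ))
    (ψ : IrrCharacter T) :
    classInner (resTo V T hVT (ψ : T → ℂ)) (fun v => (l v : ℂ)) ≠ 0 ↔
      Over (V.subgroupOf T) (l.comp (Subgroup.subgroupOfEquivOfLe hVT).toMonoidHom) ψ := by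
  constructor
  · intro h k
    have h1 := resTo_eq_smul V T (isIrrCharacter_monoidHom l) hinv hVT ψ.2 h
    have h0 := congrFun h1 1
    simp only [Pi.smul_apply, smul_eq_mul, map_one, Units.val_one, mul_one] at h0
    have h2 := congrFun h1 (Subgroup.subgroupOfEquivOfLe hVT k)
    simp only [Pi.smul_apply, smul_eq_mul, ← h0] at h2
    exact h2
  · intro h
    have e : resTo V T hVT (ψ : T → ℂ) = (ψ : T → ℂ) 1 • fun v => (l v : ℂ) := funext fun v =>
      h ((Subgroup.subgroupOfEquivOfLe hVT).symm v)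
    rw [e, classInner_smul_left, classInner_irr_self (isIrrCharacter_monoidHom l), mul_one]
    exact irr_degree_ne_zero ψ.2

/-- An orbit is odd if a character of odd degree lies above it. -/
theorem odd_index_inertia (V : Subgroup G) [V.Normal] [Fintype V] (χ : IrrCharacter G)
    (hd : Odd (charDegree (χ : G → ℂ))) {θ : V → ℂ} (hθ : IsIrrCharacter V θ)
    (h : classInner (fun v : V => (χ : G → ℂ) v) θ ≠ 0) : Odd (inertia V θ).index := by
  obtain ⟨e, he⟩ := exists_nat_classInner (isCharacter_restrict V (isCharacter_of_isIrr χ.2))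
    (isCharacter_of_isIrr hθ)
  obtain ⟨d, hd'⟩ := exists_nat_degree (isCharacter_of_isIrr hθ)
  have h1 := clifford_degree V χ.2 hθ h
  rw [he, hd', card_orbit_eq_index] at h1
  rw [RealDegree.charDegree_of_eq (d := e * ((inertia V θ).index * d))
    (by rw [h1]; push_cast; ring)] at hd
  exact (Nat.odd_mul.mp (Nat.odd_mul.mp hd).2).1

/-- A subgroup of odd index contains a conjugate of every Sylow two-subgroup. -/
theorem exists_conj_le {T : Subgroup G} (hT : Odd T.index) (P : Sylow 2 G) :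
    ∃ g : G, ∀ u ∈ (P : Subgroup G), g * u * g⁻¹ ∈ T := by
  haveI : Fact (Nat.Prime 2) := ⟨Nat.prime_two⟩
  obtain ⟨S⟩ : Nonempty (Sylow 2 T) := inferInstance
  have h1 : ¬ 2 ∣ ((S : Subgroup T).map T.subtype).index := by
    rw [Subgroup.index_map_subtype, Nat.prime_two.dvd_mul]
    exact not_or.mpr ⟨S.not_dvd_index, Nat.two_dvd_ne_zero.mpr (Nat.odd_iff.mp hT)⟩
  let Q : Sylow 2 G := (S.isPGroup'.map T.subtype).toSylow h1
  obtain ⟨c, hc⟩ := MulAction.exists_smul_eq G P Q
  refine ⟨c, fun u hu => ?_⟩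
  have h2 : (MulAut.conj c) • u ∈ ((c • P : Sylow 2 G) : Subgroup G) :=
    Subgroup.smul_mem_pointwise_smul u _ _ hu
  rw [hc] at h2
  exact Subgroup.map_subtype_le _ h2

theorem constituent_conjBy (V : Subgroup G) [V.Normal] [Fintype V] (χ : IrrCharacter G)
    (θ : V → ℂ) (g : G) :
    classInner (fun v : V => (χ : G → ℂ) v) (conjBy V θ g) =
      classInner (fun v : V => (χ : G → ℂ) v) θ := by
  nth_rw 1 [← conjBy_restrict V (isClassFunction_irr χ) g]
  exact classInner_conjBy V _ _ g

/-- A character of odd degree has a constituent fixed by a given Sylow two-subgroup. -/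
theorem exists_fixed_constituent (V : Subgroup G) [V.Normal] [Fintype V] (P : Sylow 2 G)
    (χ : IrrCharacter G) (hd : Odd (charDegree (χ : G → ℂ))) :
    ∃ θ : IrrCharacter V, classInner (fun v : V => (χ : G → ℂ) v) (θ : V → ℂ) ≠ 0 ∧
      ∀ u ∈ (P : Subgroup G), conjBy V (θ : V → ℂ) u = θ := by
  obtain ⟨θ, hθ⟩ := exists_constituent V (isCharacter_of_isIrr χ.2) (irr_degree_ne_zero χ.2)
  obtain ⟨g, hg⟩ := exists_conj_le (odd_index_inertia V χ hd θ.2 hθ) P
  refine ⟨⟨conjBy V (θ : V → ℂ) g, isIrrCharacter_conjBy V θ.2 g⟩, ?_, fun u hu => ?_⟩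
  · show classInner _ (conjBy V (θ : V → ℂ) g) ≠ 0
    rw [constituent_conjBy]; exact hθ
  · show conjBy V (conjBy V (θ : V → ℂ) g) u = conjBy V (θ : V → ℂ) g
    rw [← conjBy_mul, show g * u = (g * u * g⁻¹) * g by group, conjBy_mul,
      (mem_inertia V).mp (hg u hu)]

/-- A real character of odd degree is trivial on a normal subgroup of odd order. -/
theorem over_one_of_odd (V : Subgroup G) [V.Normal] (hV : Odd (Nat.card V)) (χ : IrrCharacter G)
    (hχ : RO χ) : Over V 1 χ := by
  classical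
  haveI := Fintype.ofFinite V
  obtain ⟨θ, hθ⟩ := exists_constituent V (isCharacter_of_isIrr χ.2) (irr_degree_ne_zero χ.2)
  set O := orbit V (θ : V → ℂ) with hO
  have hO1 : Odd O.card := by
    rw [hO, card_orbit_eq_index]; exact odd_index_inertia V χ hχ.2 θ.2 hθ
  have hreal : (fun v : V => conj ((χ : G → ℂ) v)) = fun v : V => (χ : G → ℂ) v :=
    funext fun v => Complex.conj_eq_iff_im.mpr (hχ.1 v)
  let c : (V → ℂ) → (V → ℂ) := fun φ v => conj (φ v)
  have hirr : ∀ φ ∈ O, IsIrrCharacter V φ := fun φ hφ => by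
    obtain ⟨g, rfl⟩ := (mem_orbit V).mp hφ
    exact isIrrCharacter_conjBy V θ.2 g
  have hc : ∀ φ ∈ O, c φ ∈ O := by
    intro φ hφ
    refine (mem_orbit V).mpr (exists_conjBy_of_constituents V χ.2 θ.2
      (isIrrCharacter_conj (hirr φ hφ)) hθ ?_)
    show classInner _ (fun v => conj (φ v)) ≠ 0
    rw [← hreal, classInner_conj, map_ne_zero]
    obtain ⟨g, rfl⟩ := (mem_orbit V).mp hφ
    rw [constituent_conjBy]
    exact hθ
  obtain ⟨φ, hφ, hfix⟩ : ∃ φ ∈ O, c φ = φ := by
    by_contra hno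
    push_neg at hno
    have h0 : ∑ φ ∈ O, (1 : ZMod 2) = 0 :=
      Finset.sum_involution (fun φ _ => c φ) (fun _ _ => by decide) (fun φ hφ _ => hno φ hφ) hc
        (fun φ _ => funext fun v => Complex.conj_conj _)
    rw [Finset.sum_const, nsmul_one, ZMod.natCast_eq_zero_iff_even] at h0
    exact Nat.not_even_iff_odd.mpr hO1 h0
  have h1 : φ = fun _ => 1 := irr_real_of_odd hV ⟨φ, hirr φ hφ⟩
    fun v => Complex.conj_eq_iff_im.mp (congrFun hfix v)
  obtain ⟨g, hg⟩ := (mem_orbit V).mp hφ
  have hcon : classInner (fun v : V => (χ : G → ℂ) v) (fun _ => 1) ≠ 0 := by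
    rw [← h1, ← hg, constituent_conjBy]; exact hθ
  have h2 := clifford_invariant V χ.2 isIrrCharacter_one (fun _ => rfl) hcon
  intro v
  have e0 := congrFun h2 1
  have e1 := congrFun h2 v
  simp only [Pi.smul_apply, smul_eq_mul, mul_one, Subgroup.coe_one] at e0 e1
  rw [MonoidHom.one_apply, Units.val_one, mul_one, e1, e0]

section Correspondence

variable (V T : Subgroup G) [V.Normal] [Fintype V] [Fintype T] (hVT : V ≤ T) (l : V →* ℂˣ)
  (hT : ∀ g, g ∈ T ↔ conjBy V (fun v => (l v : ℂ)) g = fun v => (l v : ℂ))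

include hT

theorem correspondence (ψ : IrrCharacter T)
    (hψ : Over (V.subgroupOf T) (l.comp (Subgroup.subgroupOfEquivOfLe hVT).toMonoidHom) ψ) :
    IsIrrCharacter G (indFun T (ψ : T → ℂ)) ∧
      classInner (fun v : V => indFun T (ψ : T → ℂ) v) (fun v => (l v : ℂ)) ≠ 0 ∧
      charDegree (indFun T (ψ : T → ℂ)) = T.index * charDegree (ψ : T → ℂ) := by
  have hcon := (over_iff V T hVT l (fun g hg => (hT g).mp hg) ψ).mpr hψ
  obtain ⟨h1, h2, -⟩ := clifford_correspondence V T (isIrrCharacter_monoidHom l) hT hVT ψ.2 hcon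
  refine ⟨h1, by rw [h2]; exact hcon, RealDegree.charDegree_of_eq ?_⟩
  rw [indFun_one, deg_eq ψ, Nat.cast_mul]

theorem over_conj (hl : ∀ v, l v * l v = 1) (ψ : IrrCharacter T)
    (hψ : Over (V.subgroupOf T) (l.comp (Subgroup.subgroupOfEquivOfLe hVT).toMonoidHom) ψ) :
    Over (V.subgroupOf T) (l.comp (Subgroup.subgroupOfEquivOfLe hVT).toMonoidHom)
      ⟨fun t => conj ((ψ : T → ℂ) t), isIrrCharacter_conj ψ.2⟩ := by
  intro k
  show conj ((ψ : T → ℂ) k) = conj ((ψ : T → ℂ) 1) * _
  rw [hψ k, map_mul]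
  congr 1
  exact conj_sq_eq_one (hl _)

theorem real_iff (hl : ∀ v, l v * l v = 1) (ψ : IrrCharacter T)
    (hψ : Over (V.subgroupOf T) (l.comp (Subgroup.subgroupOfEquivOfLe hVT).toMonoidHom) ψ) :
    (∀ g, (indFun T (ψ : T → ℂ) g).im = 0) ↔ ∀ t, ((ψ : T → ℂ) t).im = 0 := by
  have hcon := (over_iff V T hVT l (fun g hg => (hT g).mp hg) ψ).mpr hψ
  constructor
  · intro h
    obtain ⟨-, -, huniq⟩ := clifford_correspondence V T (isIrrCharacter_monoidHom l) hT hVT ψ.2 hcon
    have h1 := over_conj V T hVT l hT hl ψ hψ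
    have h2 := huniq _ (isIrrCharacter_conj ψ.2)
      ((over_iff V T hVT l (fun g hg => (hT g).mp hg) _).mpr h1)
      (funext fun g => (indFun_conj T _ g).trans (Complex.conj_eq_iff_im.mpr (h g)))
    exact fun t => Complex.conj_eq_iff_im.mp (congrFun h2 t)
  · intro h g
    refine Complex.conj_eq_iff_im.mp ?_
    rw [← indFun_conj]
    congr 1
    exact funext fun t => Complex.conj_eq_iff_im.mpr (h t)

theorem correspondence_surjective (χ : IrrCharacter G)
    (hχ : classInner (fun v : V => (χ : G → ℂ) v) (fun v => (l v : ℂ)) ≠ 0) :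
    ∃ ψ : IrrCharacter T, indFun T (ψ : T → ℂ) = (χ : G → ℂ) ∧
      Over (V.subgroupOf T) (l.comp (Subgroup.subgroupOfEquivOfLe hVT).toMonoidHom) ψ := by
  obtain ⟨ψ, h1, h2, h3⟩ :=
    clifford_correspondence_surjective V T (isIrrCharacter_monoidHom l) hT hVT χ.2 hχ
  exact ⟨⟨ψ, h1⟩, h2,
    (over_iff V T hVT l (fun g hg => (hT g).mp hg) ⟨ψ, h1⟩).mp (by rw [h3]; exact hχ)⟩

/-- The real characters of odd degree above `l` correspond to those of the inertia group. -/
theorem count_correspondence (hodd : Odd T.index) (hl : ∀ v, l v * l v = 1) :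
    Nat.card {χ : IrrCharacter G //
        RO χ ∧ classInner (fun v : V => (χ : G → ℂ) v) (fun v => (l v : ℂ)) ≠ 0} =
      Nat.card {ψ : IrrCharacter T //
        RO ψ ∧ Over (V.subgroupOf T) (l.comp (Subgroup.subgroupOfEquivOfLe hVT).toMonoidHom) ψ} := by
  refine (Nat.card_congr (Equiv.ofBijective
    (fun ψ : {ψ : IrrCharacter T //
        RO ψ ∧ Over (V.subgroupOf T) (l.comp (Subgroup.subgroupOfEquivOfLe hVT).toMonoidHom) ψ} =>
      (⟨⟨indFun T (ψ.1 : T → ℂ), (correspondence V T hVT l hT ψ.1 ψ.2.2).1⟩,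
        ⟨(real_iff V T hVT l hT hl ψ.1 ψ.2.2).mpr ψ.2.1.1, by
          show Odd (charDegree (indFun T (ψ.1 : T → ℂ)))
          rw [(correspondence V T hVT l hT ψ.1 ψ.2.2).2.2]
          exact hodd.mul ψ.2.1.2⟩,
        (correspondence V T hVT l hT ψ.1 ψ.2.2).2.1⟩ :
        {χ : IrrCharacter G //
          RO χ ∧ classInner (fun v : V => (χ : G → ℂ) v) (fun v => (l v : ℂ)) ≠ 0}))
    ⟨?_, ?_⟩)).symm
  · intro a b h
    have hinv := fun g hg => (hT g).mp hg
    obtain ⟨-, -, huniq⟩ := clifford_correspondence V T (isIrrCharacter_monoidHom l) hT hVT b.1.2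
      ((over_iff V T hVT l hinv b.1).mpr b.2.2)
    exact Subtype.ext (Subtype.ext (huniq _ a.1.2 ((over_iff V T hVT l hinv a.1).mpr a.2.2)
      (congrArg (fun x => (x.1 : G → ℂ)) h)))
  · rintro ⟨χ, hro, hcon⟩
    obtain ⟨ψ, h1, h2⟩ := correspondence_surjective V T hVT l hT χ hcon
    refine ⟨⟨ψ, ⟨(real_iff V T hVT l hT hl ψ h2).mp (fun g => by rw [h1]; exact hro.1 g), ?_⟩, h2⟩,
      Subtype.ext (Subtype.ext h1)⟩
    have h3 := hro.2
    rw [← h1, (correspondence V T hVT l hT ψ h2).2.2] at h3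
    exact (Nat.odd_mul.mp h3).2

end Correspondence

/-- An induced linear character of odd index has a constituent of odd degree. -/
theorem exists_odd_constituent (H : Subgroup G) [Fintype H] (hodd : Odd H.index) (f : H →* ℂˣ) :
    ∃ χ : IrrCharacter G, Odd (charDegree (χ : G → ℂ)) ∧
      classInner (fun h : H => (χ : G → ℂ) h) (fun h => (f h : ℂ)) ≠ 0 := by
  obtain ⟨a, ha⟩ := exists_multiplicities (isCharacter_indFun H (isCharacter_monoidHom f))
  have h1 : H.index = ∑ χ : IrrCharacter G, a χ * charDegree (χ : G → ℂ) := by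
    have h := congrFun ha 1
    simp only [indFun_one, Finset.sum_apply, Pi.smul_apply, smul_eq_mul, map_one, Units.val_one,
      mul_one, deg_eq] at h
    exact_mod_cast h
  obtain ⟨χ, hχ⟩ : ∃ χ, Odd (a χ * charDegree (χ : G → ℂ)) := by
    by_contra h
    push_neg at h
    rw [h1, ← Nat.not_even_iff_odd] at hodd
    exact hodd (Finset.even_sum _ fun χ _ => Nat.not_odd_iff_even.mp (h χ))
  refine ⟨χ, (Nat.odd_mul.mp hχ).2, ?_⟩
  rw [← frobenius_reciprocity' H _ (isClassFunction_irr χ), ← classInner_conj_symm, ha,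
    classInner_sum_smul_irr, map_natCast, Nat.cast_ne_zero]
  exact (Nat.odd_mul.mp hχ).1.pos.ne'

/-- A constituent of a restriction gives constituents of further restrictions. -/
theorem constituent_mono (K H : Subgroup G) [Fintype K] [Fintype H] (hKH : K ≤ H)
    (χ : IrrCharacter G) (f : H →* ℂˣ)
    (h : classInner (fun x : H => (χ : G → ℂ) x) (fun x => (f x : ℂ)) ≠ 0) :
    classInner (fun x : K => (χ : G → ℂ) x) (fun x => (f ⟨x, hKH x.2⟩ : ℂ)) ≠ 0 := by
  classical
  obtain ⟨b, hb⟩ := exists_multiplicities (isCharacter_restrict H (isCharacter_of_isIrr χ.2))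
  let φ : IrrCharacter H := ⟨fun x => (f x : ℂ), isIrrCharacter_monoidHom f⟩
  let θ : K →* ℂˣ := f.comp (Subgroup.inclusion hKH)
  have hbf : b φ ≠ 0 := by
    intro e
    apply h
    show classInner _ (φ : H → ℂ) = 0
    rw [hb, classInner_sum_smul_irr, e, Nat.cast_zero]
  choose q hq using fun ξ : IrrCharacter H => exists_nat_classInner
    (isCharacter_comp (Subgroup.inclusion hKH) (isCharacter_of_isIrr ξ.2)) (isCharacter_monoidHom θ)
  have hqf : q φ = 1 := by
    have h2 := hq φ
    rw [show (fun x : K => (φ : H → ℂ) (Subgroup.inclusion hKH x)) = fun x => (θ x : ℂ) from rfl,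
      classInner_irr_self (isIrrCharacter_monoidHom θ)] at h2
    exact_mod_cast h2.symm
  have hres : (fun x : K => (χ : G → ℂ) x) =
      ∑ ξ : IrrCharacter H, (b ξ : ℂ) • fun x : K => (ξ : H → ℂ) (Subgroup.inclusion hKH x) := by
    funext x
    have := congrFun hb (Subgroup.inclusion hKH x)
    simpa [Finset.sum_apply] using this
  show classInner _ (fun x => (θ x : ℂ)) ≠ 0
  rw [hres, classInner_sum_left]
  simp only [classInner_smul_left, hq, ← Nat.cast_mul, ← Nat.cast_sum, ne_eq, Nat.cast_eq_zero,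
    Finset.sum_eq_zero_iff, not_forall]
  exact ⟨φ, Finset.mem_univ _, by simp [hbf, hqf]⟩

end CfsgLib.RealOdd
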