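import Cfsg.Agent.Lib.RealOdd.TwoStep

/-!
# Real valued characters of odd degree of a solvable group and of a Sylow two-normalizer
-/

set_option autoImplicit false
set_option linter.style.haveILetI false

namespace CfsgLib.RealOdd

open Cfsg CfsgLib.Char

universe u

theorem card_quotient_lt {G : Type u} [Group G] [Finite G] {V T : Subgroup G} (hV : V ≠ ⊥)
    (hVT : V ≤ T) : Nat.card (T ⧸ V.subgroupOf T) < Nat.card G := by
  have h1 := (V.subgroupOf T).card_eq_card_quotient_mul_card_subgroup
  rw [Nat.card_congr (Subgroup.subgroupOfEquivOfLe hVT).toEquiv] at h1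
  haveI : Nontrivial V := (Subgroup.nontrivial_iff_ne_bot V).mpr hV
  have h2 : 1 < Nat.card V := Finite.one_lt_card
  have h3 : Nat.card T ≤ Nat.card G := Subgroup.card_le_card_group T
  have h4 : 0 < Nat.card (T ⧸ V.subgroupOf T) := Nat.card_pos
  nlinarith

theorem goal_of_card_le (n : ℕ) : ∀ (G : Type u) [Group G] [Finite G] [Group.IsSolvable G],
    Nat.card G ≤ n → Goal G := by
  induction n with
  | zero => intro G _ _ _ h; exact absurd h (Nat.not_le.mpr Nat.card_pos)
  | succ n ih =>
    intro G _ _ _ hn
    classical
    haveI : Fact (Nat.Prime 2) := ⟨Nat.prime_two⟩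
    rcases subsingleton_or_nontrivial G with hs | hs
    · intro P
      have hN : Subgroup.normalizer ((P : Subgroup G) : Set G) = (P : Subgroup G) :=
        SetLike.ext fun x => by simp [Subsingleton.elim x 1]
      refine ⟨(roCount_congr (Subgroup.subtype _) ⟨Subgroup.subtype_injective _, fun x =>
        ⟨1, Subsingleton.elim _ _⟩⟩).symm, fun _ => ⟨hN, fun x => ?_⟩, fun _ χ _ g => ?_⟩
      · rw [Subsingleton.elim (x * x) 1]; exact one_mem _
      · rw [Subsingleton.elim g 1, deg_eq, Complex.natCast_im]
    · haveI := Fintype.ofFinite G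
      obtain ⟨V, hVn, hV0, hVmin⟩ := exists_minimal_normal (G := G)
      haveI := hVn
      haveI := Fintype.ofFinite V
      obtain ⟨hcomm, r, hr, hrV⟩ := RealDegree.minimal_solvable hV0 hVmin inferInstance
      haveI := Fact.mk hr
      have hVp : IsPGroup r V := fun v => ⟨1, Subtype.ext (by
        rw [pow_one]; exact hrV v v.2)⟩
      have ih0 : Goal (G ⧸ V) := by
        refine ih (G ⧸ V) ?_
        have h1 := V.card_eq_card_quotient_mul_card_subgroup
        haveI : Nontrivial V := (Subgroup.nontrivial_iff_ne_bot V).mpr hV0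
        have h2 : 1 < Nat.card V := Finite.one_lt_card
        have h4 : 0 < Nat.card (G ⧸ V) := Nat.card_pos
        nlinarith
      by_cases h2 : r = 2
      · subst h2
        intro P
        refine step_two V P (le_sylow_of_normal V hVp P)
          (fun v => Subtype.ext (by rw [← pow_two]; exact hrV v v.2)) hcomm (fun T hT => ?_) ih0
        exact ih _ (by have := card_quotient_lt (G := G) hV0 hT; omega)
      · refine step_odd V hcomm ?_ ih0
        obtain ⟨k, hk⟩ := IsPGroup.iff_card.mp hVp
        rw [hk]
        exact (hr.odd_of_ne_two h2).pow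

/-- The statement for every finite solvable group. -/
theorem main {G : Type u} [Group G] [Finite G] [Group.IsSolvable G] (P : Sylow 2 G) :
    roCount G = roCount (Subgroup.normalizer ((P : Subgroup G) : Set G)) ∧
      (AllReal G ↔ commutator (P : Subgroup G) = frattini (P : Subgroup G) ∧
        Subgroup.normalizer ((P : Subgroup G) : Set G) = (P : Subgroup G)) := by
  obtain ⟨h1, h2⟩ := goal_of_card_le (Nat.card G) G le_rfl P
  exact ⟨h1, h2.trans (and_comm.trans (and_congr_left fun _ => sq_iff_frattini P.isPGroup'))⟩

end CfsgLib.RealOdd
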