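import Cfsg.Agent.Lib.RealOdd.Group
import Cfsg.Agent.Lib.Char.Artin

/-!
# The inductive step for a normal subgroup of odd order
-/

set_option autoImplicit false
set_option linter.unusedSectionVars false
set_option linter.style.haveILetI false

namespace CfsgLib.RealOdd

open Cfsg CfsgLib.Char
open scoped Pointwise CfsgLib.Char

/-- The statement proved by induction. -/
def Goal (G : Type*) [Group G] : Prop :=
  ∀ P : Sylow 2 G, roCount G = roCount (Subgroup.normalizer ((P : Subgroup G) : Set G)) ∧
    (AllReal G ↔ Cond P)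

theorem step_odd {G : Type*} [Group G] [Finite G] (V : Subgroup G) [V.Normal]
    (hcomm : ∀ a ∈ V, ∀ b ∈ V, Commute a b) (hVo : Odd (Nat.card V)) (ih : Goal (G ⧸ V)) :
    Goal G := by
  classical
  haveI := Fintype.ofFinite G
  haveI := Fintype.ofFinite V
  haveI : Fact (Nat.Prime 2) := ⟨Nat.prime_two⟩
  intro P
  set N : Subgroup G := Subgroup.normalizer ((P : Subgroup G) : Set G) with hNdef
  set f : G →* G ⧸ V := QuotientGroup.mk' V with hfdef
  have hf : Function.Surjective f := QuotientGroup.mk'_surjective V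
  have hker : f.ker = V := QuotientGroup.ker_mk' V
  set Pb : Sylow 2 (G ⧸ V) := P.mapSurjective hf with hPbdef
  have hPb : (Pb : Subgroup (G ⧸ V)) = (P : Subgroup G).map f := Sylow.coe_mapSurjective hf P
  obtain ⟨ihc, ihr⟩ := ih Pb
  set Nb : Subgroup (G ⧸ V) := Subgroup.normalizer ((Pb : Subgroup (G ⧸ V)) : Set (G ⧸ V)) with hNb
  have hmap : N.map f = Nb := by
    rw [hNb, hPb]
    exact PSolvable.map_normalizer_eq (p := 2) hf
      (by rw [hker]; exact Nat.coprime_two_right.mpr hVo) P.isPGroup'
  have hcop : Nat.Coprime (Nat.card (P : Subgroup G)) (Nat.card V) := by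
    obtain ⟨k, hk⟩ := IsPGroup.iff_card.mp P.isPGroup'
    rw [hk]
    exact (Nat.coprime_two_left.mpr hVo).pow_left k
  have hdisj : V ⊓ (P : Subgroup G) = ⊥ := Subgroup.inf_eq_bot_of_coprime hcop.symm
  constructor
  · have h1 : roCount G = roCount (G ⧸ V) := by
      rw [← count_kernel f hf V hker]
      exact Nat.card_congr (Equiv.subtypeEquivRight fun χ =>
        ⟨fun h => ⟨h, over_one_of_odd V hVo χ h⟩, And.left⟩)
    haveI : Fintype N := Fintype.ofFinite N
    let g : N →* Nb :=
      (f.comp N.subtype).codRestrict Nb fun x => hmap ▸ Subgroup.mem_map_of_mem f x.2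
    have hg : Function.Surjective g := by
      rintro ⟨y, hy⟩
      rw [← hmap] at hy
      obtain ⟨x, hx, rfl⟩ := hy
      exact ⟨⟨x, hx⟩, rfl⟩
    have hgk : g.ker = V.subgroupOf N := by
      ext x
      rw [MonoidHom.mem_ker, Subtype.ext_iff, Subgroup.mem_subgroupOf]
      exact QuotientGroup.eq_one_iff (x : G)
    have hodd : Odd (Nat.card (V.subgroupOf N)) :=
      hVo.of_dvd_nat (Subgroup.card_comap_dvd_of_injective V N.subtype N.subtype_injective)
    have h2 : roCount N = roCount Nb := by
      rw [← count_kernel g hg (V.subgroupOf N) hgk]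
      exact Nat.card_congr (Equiv.subtypeEquivRight fun χ =>
        ⟨fun h => ⟨h, over_one_of_odd _ hodd χ h⟩, And.left⟩)
    rw [h1, ihc, h2]
  · constructor
    · intro hall
      have hQ : AllReal (G ⧸ V) := allReal_of_surjective f hf hall
      obtain ⟨hn, hsq⟩ := ihr.mp hQ
      rw [← hNb] at hn
      have hfix : ∀ v ∈ V, (∀ u ∈ (P : Subgroup G), u * v * u⁻¹ = v) → v = 1 := by
        intro v hv hu
        by_contra hv1
        obtain ⟨θ, hθ1, hθ⟩ := exists_invariant_linear V hcomm (P : Subgroup G) hcop ⟨v, hv⟩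
          (fun e => hv1 (congrArg Subtype.val e)) hu
        obtain ⟨φ, hφ⟩ := RealDegree.exists_extend_sup V (P : Subgroup G) hdisj θ
          fun s hs m m' e => hθ s hs m m' e
        haveI : Fintype ↥(V ⊔ (P : Subgroup G)) := Fintype.ofFinite _
        have hidx : Odd (V ⊔ (P : Subgroup G)).index :=
          (Nat.odd_iff.mpr (Nat.two_dvd_ne_zero.mp P.not_dvd_index)).of_dvd_nat
            (Subgroup.index_dvd_of_le le_sup_right)
        obtain ⟨χ, hχd, hχ⟩ := exists_odd_constituent _ hidx φ
        have hm := constituent_mono V _ le_sup_left χ φ hχ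
        have hov := over_one_of_odd V hVo χ ⟨hall χ hχd, hχd⟩
        apply hm
        have e1 : (fun x : V => (χ : G → ℂ) x) = (χ : G → ℂ) 1 • fun _ : V => (1 : ℂ) :=
          funext fun x => by simpa using hov x
        have e2 : ∀ x : V, φ ⟨(x : G), le_sup_left (b := (P : Subgroup G)) x.2⟩ = θ x :=
          fun x => hφ x 1 _ (by simp)
        simp only [e2]
        rw [e1, classInner_smul_left]
        refine mul_eq_zero_of_right _ (classInner_irr_ne isIrrCharacter_one
          (isIrrCharacter_monoidHom θ) fun e => hθ1 (Units.ext ?_))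
        exact (congrFun e _).symm
      refine ⟨le_antisymm (fun n hn' => ?_) Subgroup.le_normalizer, fun x => ?_⟩
      · have h1 : f n ∈ (Pb : Subgroup (G ⧸ V)) := hn ▸ hmap ▸ Subgroup.mem_map_of_mem f hn'
        rw [hPb] at h1
        obtain ⟨u, hu, hun⟩ := h1
        have hv : u⁻¹ * n ∈ V := by
          rw [← hker, MonoidHom.mem_ker, map_mul, map_inv, hun, inv_mul_cancel]
        have hvn : u⁻¹ * n ∈ N := mul_mem (inv_mem (Subgroup.le_normalizer hu)) hn'
        have h2 : u⁻¹ * n = 1 := hfix _ hv fun w hw => by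
          have h3 : u⁻¹ * n * w * (u⁻¹ * n)⁻¹ * w⁻¹ ∈ V ⊓ (P : Subgroup G) := by
            refine Subgroup.mem_inf.mpr ⟨?_, mul_mem
              ((Subgroup.mem_normalizer_iff.mp hvn w).mp hw) (inv_mem hw)⟩
            rw [show u⁻¹ * n * w * (u⁻¹ * n)⁻¹ * w⁻¹ = u⁻¹ * n * (w * (u⁻¹ * n)⁻¹ * w⁻¹) by group]
            exact mul_mem hv ((inferInstance : V.Normal).conj_mem _ (inv_mem hv) w)
          rw [hdisj, Subgroup.mem_bot, mul_inv_eq_one, mul_inv_eq_iff_eq_mul] at h3
          rw [← h3]
          group
        rw [show n = u by rw [← one_mul n, ← mul_inv_cancel u, mul_assoc, h2, mul_one]]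
        exact hu
      · let g : (P : Subgroup G) →* (Pb : Subgroup (G ⧸ V)) := f.subgroupMap (P : Subgroup G)
        have hg : Function.Surjective g := f.subgroupMap_surjective _
        have hginj : Function.Injective g := by
          refine (injective_iff_map_eq_one g).mpr fun y hy => Subtype.ext ?_
          have h1 : (y : G) ∈ V := (QuotientGroup.eq_one_iff (y : G)).mp (congrArg Subtype.val hy)
          exact Subgroup.mem_bot.mp (hdisj ▸ Subgroup.mem_inf.mpr ⟨h1, y.2⟩)
        have h1 : (commutator (P : Subgroup G)).map g = commutator (Pb : Subgroup (G ⧸ V)) := by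
          rw [commutator_def, Subgroup.map_commutator, Subgroup.map_top_of_surjective g hg,
            commutator_def]
        have h2 := hsq (g x)
        rw [← map_mul, ← h1] at h2
        obtain ⟨c, hc, e⟩ := h2
        exact hginj e ▸ hc
    · intro hcond χ hd
      obtain ⟨hn, hsq⟩ := hcond
      rw [← hNdef] at hn
      have hQ : AllReal (G ⧸ V) := ihr.mpr
        ⟨by rw [← hNb, ← hmap, hn, hPb], sq_commutator_map (f.subgroupMap (P : Subgroup G))
          (f.subgroupMap_surjective _) hsq⟩
      obtain ⟨θ, hθ, hθP⟩ := exists_fixed_constituent V P χ hd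
      have hθ1 : (θ : V → ℂ) 1 = 1 :=
        degree_one_of_comm (fun a b => Subtype.ext (hcomm a a.2 b b.2).eq) θ
      let l : V →* ℂˣ := linearHom (isCharacter_of_isIrr θ.2) hθ1
      have hl : ∀ u ∈ (P : Subgroup G), ∀ v w : V, (w : G) = u * (v : G) * u⁻¹ → l w = l v := by
        intro u hu v w e
        refine Units.ext ?_
        show (θ : V → ℂ) w = (θ : V → ℂ) v
        rw [← congrFun (hθP u hu) v, show w = ⟨u * (v : G) * u⁻¹,
          (inferInstance : V.Normal).conj_mem _ v.2 u⟩ from Subtype.ext e]
        rfl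
      have htriv := invariant_trivial V hcomm (P : Subgroup G) hcop (fun v hv hu => by
        have h1 : v ∈ N := Subgroup.centralizer_le_normalizer _ fun u hu' => by
          have := hu u hu'
          rwa [mul_inv_eq_iff_eq_mul] at this
        rw [hn] at h1
        exact Subgroup.mem_bot.mp (hdisj ▸ Subgroup.mem_inf.mpr ⟨hv, h1⟩)) l hl
      have e : (θ : V → ℂ) = fun _ => 1 := funext fun v => congrArg Units.val (htriv v)
      rw [e] at hθ
      have h2 := clifford_invariant V χ.2 isIrrCharacter_one (fun _ => rfl) hθ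
      have hov : Over V 1 χ := by
        intro v
        have e0 := congrFun h2 1
        have e1 := congrFun h2 v
        simp only [Pi.smul_apply, smul_eq_mul, mul_one, Subgroup.coe_one] at e0 e1
        rw [MonoidHom.one_apply, Units.val_one, mul_one, e1, e0]
      exact real_over f hf V hker 1 ⟨1, fun _ => one_mul 1, fun _ => rfl⟩ hQ χ hd hov

end CfsgLib.RealOdd
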