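import Cfsg.Agent.Lib.RealOdd.OddStep

/-!
# The inductive step for a normal subgroup of exponent two
-/

set_option autoImplicit false
set_option linter.unusedSectionVars false
set_option linter.style.haveILetI false

namespace CfsgLib.RealOdd

open Cfsg CfsgLib.Char
open scoped Pointwise CfsgLib.Char

variable {G : Type*} [Group G] [Fintype G]

theorem conjBy_subgroupOf (V N : Subgroup G) [V.Normal] (hVN : V ≤ N) (θ : V → ℂ) (n : N) :
    conjBy (V.subgroupOf N) (fun x => θ (Subgroup.subgroupOfEquivOfLe hVN x)) n =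
      fun x => conjBy V θ (n : G) (Subgroup.subgroupOfEquivOfLe hVN x) := rfl

theorem conjBy_subgroupOf_iff (V N : Subgroup G) [V.Normal] (hVN : V ≤ N) (θ θ' : V → ℂ) (n : N) :
    conjBy (V.subgroupOf N) (fun x => θ (Subgroup.subgroupOfEquivOfLe hVN x)) n =
        (fun x => θ' (Subgroup.subgroupOfEquivOfLe hVN x)) ↔ conjBy V θ (n : G) = θ' := by
  rw [conjBy_subgroupOf]
  exact (Subgroup.subgroupOfEquivOfLe hVN).surjective.injective_comp_right.eq_iff
    (a := conjBy V θ (n : G)) (b := θ')

variable (V : Subgroup G) [V.Normal] [Fintype V] (P : Sylow 2 G)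

/-- Two characters fixed by `P` and conjugate in `G` are conjugate under the normalizer. -/
theorem exists_normalizer_conj (hVcl : ∀ θ : V → ℂ, ∀ u ∈ V, IsClassFunction V θ → conjBy V θ u = θ)
    (θ θ' : V → ℂ) (hθ : ∀ u ∈ (P : Subgroup G), conjBy V θ u = θ)
    (hθ' : ∀ u ∈ (P : Subgroup G), conjBy V θ' u = θ') (g : G) (hg : conjBy V θ g = θ') :
    ∃ n ∈ Subgroup.normalizer ((P : Subgroup G) : Set G), conjBy V θ n = θ' := by
  haveI : Fact (Nat.Prime 2) := ⟨Nat.prime_two⟩
  set T := inertia V θ with hTdef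
  have hPT : (P : Subgroup G) ≤ T := hθ
  have hgP : ((g • P : Sylow 2 G) : Subgroup G) ≤ T := by
    intro x hx
    obtain ⟨u, hu, rfl⟩ := hx
    show conjBy V θ (g * u * g⁻¹) = θ
    rw [conjBy_mul, conjBy_mul, hg, hθ' u hu, ← hg, ← conjBy_mul, mul_inv_cancel, conjBy_one]
  obtain ⟨t, ht⟩ := MulAction.exists_smul_eq T ((g • P).subtype hgP) (P.subtype hPT)
  refine ⟨(t : G) * g, Subgroup.mem_normalizer_fintype fun u hu => ?_, ?_⟩
  · have h1 : g * u * g⁻¹ ∈ ((g • P : Sylow 2 G) : Subgroup G) :=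
      Subgroup.smul_mem_pointwise_smul u (MulAut.conj g) _ hu
    have h2 : (MulAut.conj t) • (⟨g * u * g⁻¹, hgP h1⟩ : T) ∈
        ((t • (g • P).subtype hgP : Sylow 2 T) : Subgroup T) :=
      Subgroup.smul_mem_pointwise_smul _ _ _ h1
    rw [ht] at h2
    have h3 : (t : G) * (g * u * g⁻¹) * (t : G)⁻¹ ∈ (P : Subgroup G) := h2
    rwa [show (t : G) * g * u * ((t : G) * g)⁻¹ = (t : G) * (g * u * g⁻¹) * (t : G)⁻¹ by group]
  · rw [conjBy_mul, show conjBy V θ (t : G) = θ from t.2, hg]

variable (hVP : V ≤ (P : Subgroup G)) (hV2 : ∀ v : V, v * v = 1)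
  (hcomm : ∀ a ∈ V, ∀ b ∈ V, Commute a b)

include hV2 in
theorem linear_sq (l : V →* ℂˣ) (v : V) : l v * l v = 1 := by rw [← map_mul, hV2, map_one]

include hVP hV2 in
/-- The count above a fixed linear character agrees with that in the normalizer. -/
theorem count_fibre (N : Subgroup G) (hN : N = Subgroup.normalizer ((P : Subgroup G) : Set G))
    [Fintype N] (hVN : V ≤ N) [Fintype (V.subgroupOf N)]
    (l : V →* ℂˣ) (hl : ∀ u ∈ (P : Subgroup G), conjBy V (fun v => (l v : ℂ)) u = fun v => (l v : ℂ))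
    (ih : ∀ T : Subgroup G, V ≤ T → Goal (T ⧸ V.subgroupOf T)) :
    Nat.card {χ : IrrCharacter G //
        RO χ ∧ classInner (fun v : V => (χ : G → ℂ) v) (fun v => (l v : ℂ)) ≠ 0} =
      Nat.card {y : IrrCharacter N //
        RO y ∧ classInner (fun v : V.subgroupOf N => (y : N → ℂ) v)
          (fun v => (l (Subgroup.subgroupOfEquivOfLe hVN v) : ℂ)) ≠ 0} := by
  classical
  haveI : Fact (Nat.Prime 2) := ⟨Nat.prime_two⟩
  have hPN : (P : Subgroup G) ≤ N := hN ▸ Subgroup.le_normalizer
  set θ : V → ℂ := fun v => (l v : ℂ) with hθdef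
  set T := inertia V θ with hTdef
  have hVT : V ≤ T := le_inertia V (isClassFunction_irr ⟨θ, isIrrCharacter_monoidHom l⟩)
  have hPT : (P : Subgroup G) ≤ T := hl
  have hPodd : Odd (P : Subgroup G).index :=
    Nat.odd_iff.mpr (Nat.two_dvd_ne_zero.mp P.not_dvd_index)
  have hTodd : Odd T.index := hPodd.of_dvd_nat (Subgroup.index_dvd_of_le hPT)
  haveI : Fintype T := Fintype.ofFinite T
  -- the side of `G`
  rw [count_correspondence V T hVT l (fun g => mem_inertia V) hTodd (linear_sq V hV2 l)]
  have hVTk : (QuotientGroup.mk' (V.subgroupOf T)).ker = V.subgroupOf T :=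
    QuotientGroup.ker_mk' _
  rw [count_over (QuotientGroup.mk' (V.subgroupOf T)) (QuotientGroup.mk'_surjective _) _ hVTk _
    (fun k => linear_sq V hV2 l _)]
  -- the side of the normalizer
  let l' : V.subgroupOf N →* ℂˣ := l.comp (Subgroup.subgroupOfEquivOfLe hVN).toMonoidHom
  set T' := inertia (V.subgroupOf N) (fun v => (l' v : ℂ)) with hT'def
  have hT' : ∀ n : N, n ∈ T' ↔ (n : G) ∈ T := fun n => conjBy_subgroupOf_iff V N hVN θ θ n
  have hV'T' : V.subgroupOf N ≤ T' := fun n hn => (hT' n).mpr (hVT hn)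
  have hT'odd : Odd T'.index := by
    have h1 : (P : Subgroup G).subgroupOf N ≤ T' := fun n hn => (hT' n).mpr (hPT hn)
    refine hPodd.of_dvd_nat ((Subgroup.index_dvd_of_le h1).trans ?_)
    exact Subgroup.relIndex_dvd_of_le_left N (le_refl _) |>.trans
      (Dvd.intro _ (Subgroup.relIndex_mul_index hPN))
  haveI : Fintype T' := Fintype.ofFinite T'
  refine Eq.trans ?_ (count_correspondence (V.subgroupOf N) T' hV'T' l' (fun g => mem_inertia _)
    hT'odd (fun v => linear_sq V hV2 l _)).symm
  set PT : Sylow 2 T := P.subtype hPT with hPTdef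
  let π : T →* T ⧸ V.subgroupOf T := QuotientGroup.mk' (V.subgroupOf T)
  have hπ : Function.Surjective π := QuotientGroup.mk'_surjective _
  set Pb : Sylow 2 (T ⧸ V.subgroupOf T) := PT.mapSurjective hπ with hPbdef
  set Nb := Subgroup.normalizer ((Pb : Subgroup (T ⧸ V.subgroupOf T)) : Set (T ⧸ V.subgroupOf T))
    with hNb
  have hmap : (Subgroup.normalizer ((PT : Subgroup T) : Set T)).map π = Nb := by
    rw [hNb, hPbdef, Sylow.coe_mapSurjective]
    refine map_normalizer_of_ker_le π hπ _ ?_
    rw [hVTk]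
    exact fun x hx => hVP hx
  have hnorm : ∀ x : T, x ∈ Subgroup.normalizer ((PT : Subgroup T) : Set T) ↔ (x : G) ∈ N := by
    intro x
    rw [hN]
    constructor
    · intro h
      refine Subgroup.mem_normalizer_fintype fun u hu => ?_
      exact (Subgroup.mem_normalizer_iff.mp h ⟨u, hPT hu⟩).mp hu
    · intro h
      refine Subgroup.mem_normalizer_iff.mpr fun u => ?_
      exact Subgroup.mem_normalizer_iff.mp h (u : G)
  let ι : T' →* T := (N.subtype.comp T'.subtype).codRestrict T fun x => (hT' x.1).mp x.2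
  let g : T' →* Nb := (π.comp ι).codRestrict Nb fun x =>
    hmap ▸ Subgroup.mem_map_of_mem π ((hnorm (ι x)).mpr x.1.2)
  have hg : Function.Surjective g := by
    rintro ⟨y, hy⟩
    rw [← hmap] at hy
    obtain ⟨x, hx, rfl⟩ := hy
    exact ⟨⟨⟨(x : G), (hnorm x).mp hx⟩, (hT' _).mpr x.2⟩, rfl⟩
  have hgk : g.ker = (V.subgroupOf N).subgroupOf T' := by
    ext x
    rw [MonoidHom.mem_ker, Subtype.ext_iff]
    exact QuotientGroup.eq_one_iff (ι x)
  rw [count_over g hg _ hgk _ (fun k => linear_sq V hV2 l _)]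
  have hcount : roCount (T ⧸ V.subgroupOf T) = roCount Nb := (ih T hVT Pb).1
  have hiff : RealExt (V.subgroupOf T) (l.comp (Subgroup.subgroupOfEquivOfLe hVT).toMonoidHom) ↔
      RealExt ((V.subgroupOf N).subgroupOf T')
        (l'.comp (Subgroup.subgroupOfEquivOfLe hV'T').toMonoidHom) := by
    constructor
    · rintro ⟨μ, h1, h2⟩
      exact ⟨μ.comp ι, fun x => h1 _, fun k => h2 ⟨ι (k : T'), k.2⟩⟩
    · rintro ⟨μ, h1, h2⟩
      let j : (PT : Subgroup T) →* T' :=
        { toFun := fun u => ⟨⟨((u : T) : G), hPN u.2⟩, (hT' _).mpr (u : T).2⟩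
          map_one' := rfl
          map_mul' := fun _ _ => rfl }
      refine realExt_of_odd_index (V.subgroupOf T) (PT : Subgroup T) (fun x hx => hVP hx)
        (Nat.odd_iff.mpr (Nat.two_dvd_ne_zero.mp PT.not_dvd_index)) _ (fun t v w e => ?_)
        (fun v => linear_sq V hV2 l _) (μ.comp j) (fun u => h1 _) (fun v => ?_)
      · refine Units.ext ?_
        have h3 := congrFun (t.2 : conjBy V θ (t : G) = θ) (Subgroup.subgroupOfEquivOfLe hVT v)
        refine Eq.trans ?_ h3
        refine congrArg θ (Subtype.ext ?_)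
        have e' := congrArg Subtype.val e
        exact e'
      · exact h2 ⟨⟨⟨((v : T) : G), hVN v.2⟩, (hT' _).mpr (v : T).2⟩, v.2⟩
  by_cases hE : RealExt (V.subgroupOf T) (l.comp (Subgroup.subgroupOfEquivOfLe hVT).toMonoidHom)
  · rw [if_pos hE, if_pos (hiff.mp hE), hcount]
  · rw [if_neg hE, if_neg (fun h => hE (hiff.mpr h))]

include hVP hV2 hcomm in
theorem count_two (ih : ∀ T : Subgroup G, V ≤ T → Goal (T ⧸ V.subgroupOf T)) :
    roCount G = roCount (Subgroup.normalizer ((P : Subgroup G) : Set G)) := by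
  classical
  haveI : Fact (Nat.Prime 2) := ⟨Nat.prime_two⟩
  set N := Subgroup.normalizer ((P : Subgroup G) : Set G) with hNdef
  haveI : Fintype N := Fintype.ofFinite N
  haveI : Fintype (V.subgroupOf N) := Fintype.ofFinite _
  haveI : Finite (IrrCharacter G) := finite_irrCharacter
  haveI : Finite (IrrCharacter N) := finite_irrCharacter
  have hVN : V ≤ N := hVP.trans Subgroup.le_normalizer
  let F := {l : V →* ℂˣ //
    ∀ u ∈ (P : Subgroup G), conjBy V (fun v => (l v : ℂ)) u = fun v => (l v : ℂ)}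
  let r : Setoid F :=
    { r := fun a b => ∃ n ∈ N, conjBy V (fun v => (a.1 v : ℂ)) n = fun v => (b.1 v : ℂ)
      iseqv :=
        { refl := fun a => ⟨1, one_mem N, conjBy_one V _⟩
          symm := fun {a b} ⟨n, hn, h⟩ => ⟨n⁻¹, inv_mem hn, by
            rw [← h, ← conjBy_mul, mul_inv_cancel, conjBy_one]⟩
          trans := fun {a b c} ⟨n, hn, h⟩ ⟨m, hm, h'⟩ => ⟨n * m, mul_mem hn hm, by
            rw [conjBy_mul, h, h']⟩ } }
  have hVcomm : ∀ a b : V, a * b = b * a := fun a b => Subtype.ext (hcomm a a.2 b b.2).eq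
  let X := {χ : IrrCharacter G // RO χ}
  let Y := {y : IrrCharacter N // RO y}
  let C : X → F → Prop := fun x f =>
    classInner (fun v : V => (x.1 : G → ℂ) v) (fun v => (f.1 v : ℂ)) ≠ 0
  let D : Y → F → Prop := fun y f =>
    classInner (fun v : V.subgroupOf N => (y.1 : N → ℂ) v)
      (fun v => (f.1 (Subgroup.subgroupOfEquivOfLe hVN v) : ℂ)) ≠ 0
  show Nat.card X = Nat.card Y
  refine card_eq_of_fibres r C D (fun x => ?_) (fun y => ?_) (fun x f f' hx => ?_)
    (fun y f f' hy => ?_) (fun f => ?_)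
  · obtain ⟨θ, hθ, hθP⟩ := exists_fixed_constituent V P x.1 x.2.2
    exact ⟨⟨linearHom (isCharacter_of_isIrr θ.2) (degree_one_of_comm hVcomm θ), hθP⟩, hθ⟩
  · let e := Subgroup.subgroupOfEquivOfLe hVN
    obtain ⟨θ, hθ, hθP⟩ := exists_fixed_constituent (V.subgroupOf N)
      (P.subtype Subgroup.le_normalizer) y.1 y.2.2
    let lam := linearHom (isCharacter_of_isIrr θ.2) (degree_one_of_comm
      (fun a b => e.injective (by rw [map_mul, map_mul, hVcomm])) θ)
    let l : V →* ℂˣ := lam.comp e.symm.toMonoidHom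
    have hle : (fun x => (l (e x) : ℂ)) = (θ : V.subgroupOf N → ℂ) := funext fun x => by
      show (θ : V.subgroupOf N → ℂ) (e.symm (e x)) = _
      rw [MulEquiv.symm_apply_apply]
    refine ⟨⟨l, fun u hu => ?_⟩, ?_⟩
    · refine (conjBy_subgroupOf_iff V N hVN _ _ ⟨u, Subgroup.le_normalizer hu⟩).mp ?_
      rw [hle]
      exact hθP ⟨u, Subgroup.le_normalizer hu⟩ hu
    · show classInner _ (fun x => (l (e x) : ℂ)) ≠ 0
      rw [hle]
      exact hθ
  · constructor
    · intro hx'
      obtain ⟨g, hg⟩ := exists_conjBy_of_constituents V x.1.2 (isIrrCharacter_monoidHom f.1)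
        (isIrrCharacter_monoidHom f'.1) hx hx'
      exact exists_normalizer_conj V P (fun θ u hu h => conjBy_mem V h hu) _ _ f.2 f'.2 g hg
    · rintro ⟨n, -, hn⟩
      show classInner _ _ ≠ 0
      rw [← hn, constituent_conjBy]
      exact hx
  · constructor
    · intro hy'
      obtain ⟨g, hg⟩ := exists_conjBy_of_constituents (V.subgroupOf N) y.1.2
        (isIrrCharacter_monoidHom (f.1.comp (Subgroup.subgroupOfEquivOfLe hVN).toMonoidHom))
        (isIrrCharacter_monoidHom (f'.1.comp (Subgroup.subgroupOfEquivOfLe hVN).toMonoidHom)) hy hy'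
      exact ⟨(g : G), g.2, (conjBy_subgroupOf_iff V N hVN (fun v => (f.1 v : ℂ))
        (fun v => (f'.1 v : ℂ)) g).mp hg⟩
    · rintro ⟨n, hn, h⟩
      have h' := (conjBy_subgroupOf_iff V N hVN (fun v => (f.1 v : ℂ))
        (fun v => (f'.1 v : ℂ)) ⟨n, hn⟩).mpr h
      show classInner _ _ ≠ 0
      rw [← h', constituent_conjBy]
      exact hy
  · refine Eq.trans ?_ ((count_fibre V P hVP hV2 N hNdef hVN f.1 f.2 ih).trans ?_)
    · exact Nat.card_congr (Equiv.subtypeSubtypeEquivSubtypeInter (fun χ : IrrCharacter G => RO χ)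
        (fun χ => classInner (fun v : V => (χ : G → ℂ) v) (fun v => (f.1 v : ℂ)) ≠ 0))
    · exact Nat.card_congr (Equiv.subtypeSubtypeEquivSubtypeInter (fun y : IrrCharacter N => RO y)
        (fun y => classInner (fun v : V.subgroupOf N => (y : N → ℂ) v)
          (fun v => (f.1 (Subgroup.subgroupOfEquivOfLe hVN v) : ℂ)) ≠ 0)).symm

include hVP hV2 hcomm in
theorem allReal_two (ih : ∀ T : Subgroup G, V ≤ T → Goal (T ⧸ V.subgroupOf T))
    (ih0 : Goal (G ⧸ V)) : AllReal G ↔ Cond P := by
  classical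
  haveI : Fact (Nat.Prime 2) := ⟨Nat.prime_two⟩
  set N := Subgroup.normalizer ((P : Subgroup G) : Set G) with hNdef
  have hVcomm : ∀ a b : V, a * b = b * a := fun a b => Subtype.ext (hcomm a a.2 b b.2).eq
  have hPodd : Odd (P : Subgroup G).index :=
    Nat.odd_iff.mpr (Nat.two_dvd_ne_zero.mp P.not_dvd_index)
  constructor
  · intro hall
    set f : G →* G ⧸ V := QuotientGroup.mk' V with hfdef
    have hf : Function.Surjective f := QuotientGroup.mk'_surjective V
    have hker : f.ker = V := QuotientGroup.ker_mk' V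
    set Pb : Sylow 2 (G ⧸ V) := P.mapSurjective hf with hPbdef
    have hPb : (Pb : Subgroup (G ⧸ V)) = (P : Subgroup G).map f := Sylow.coe_mapSurjective hf P
    obtain ⟨hn, hsq⟩ := (ih0 Pb).2.mp (allReal_of_surjective f hf hall)
    refine ⟨?_, sq_of_linear fun γ x => ?_⟩
    · have hkP : f.ker ≤ (P : Subgroup G) := hker.symm ▸ hVP
      rw [hPb, ← map_normalizer_of_ker_le f hf _ hkP] at hn
      have h1 := congrArg (Subgroup.comap f) hn
      rwa [Subgroup.comap_map_eq_self (hkP.trans Subgroup.le_normalizer),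
        Subgroup.comap_map_eq_self hkP] at h1
    · -- characters of the Sylow subgroup trivial on `V`
      have key : ∀ δ : (P : Subgroup G) →* ℂˣ, (∀ v : V, δ ⟨(v : G), hVP v.2⟩ = 1) →
          δ (x * x) = 1 := by
        intro δ hδ
        let g : (P : Subgroup G) →* (Pb : Subgroup (G ⧸ V)) := f.subgroupMap (P : Subgroup G)
        have hg : Function.Surjective g := f.subgroupMap_surjective _
        have h1 : (commutator (P : Subgroup G)).map g = commutator (Pb : Subgroup (G ⧸ V)) := by
          rw [commutator_def, Subgroup.map_commutator, Subgroup.map_top_of_surjective g hg,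
            commutator_def]
        have h2 := hsq (g x)
        rw [← map_mul, ← h1] at h2
        obtain ⟨c, hc, e⟩ := h2
        have hv : ((c⁻¹ * (x * x) : (P : Subgroup G)) : G) ∈ V :=
          (QuotientGroup.eq_one_iff _).mp (congrArg Subtype.val
            (show g (c⁻¹ * (x * x)) = 1 by rw [map_mul, map_inv, e, inv_mul_cancel]))
        have h3 := hδ ⟨_, hv⟩
        rw [map_mul, map_inv, MonoidHom.mem_ker.mp (Abelianization.commutator_subset_ker δ hc),
          inv_one, one_mul] at h3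
        exact h3
      let l : V →* ℂˣ := γ.comp (Subgroup.inclusion hVP)
      have hl : ∀ u ∈ (P : Subgroup G), conjBy V (fun v => (l v : ℂ)) u = fun v => (l v : ℂ) := by
        intro u hu
        funext v
        have e : Subgroup.inclusion hVP ⟨u * (v : G) * u⁻¹,
            (inferInstance : V.Normal).conj_mem _ v.2 u⟩ =
            (⟨u, hu⟩ : (P : Subgroup G)) * Subgroup.inclusion hVP v * (⟨u, hu⟩)⁻¹ := rfl
        show ((γ (Subgroup.inclusion hVP _) : ℂˣ) : ℂ) = _
        rw [e, map_mul, map_mul, map_inv, mul_comm (γ ⟨u, hu⟩), mul_inv_cancel_right]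
        rfl
      set T := inertia V (fun v => (l v : ℂ)) with hTdef
      have hPT : (P : Subgroup G) ≤ T := hl
      have hVT : V ≤ T := hVP.trans hPT
      haveI : Fintype T := Fintype.ofFinite T
      haveI : Fintype (P : Subgroup G) := Fintype.ofFinite _
      obtain ⟨χ, hχd, hχ⟩ := exists_odd_constituent (P : Subgroup G) hPodd γ
      have hm : classInner (fun v : V => (χ : G → ℂ) v) (fun v => (l v : ℂ)) ≠ 0 :=
        constituent_mono V _ hVP χ γ hχ
      obtain ⟨ψ, h1, h2⟩ := correspondence_surjective V T hVT l (fun g => mem_inertia V) χ hm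
      have hψr := (real_iff V T hVT l (fun g => mem_inertia V) (linear_sq V hV2 l) ψ h2).mp
        (fun g => by rw [h1]; exact hall χ hχd g)
      have hψd : Odd (charDegree (ψ : T → ℂ)) := by
        have h3 := hχd
        rw [← h1, (correspondence V T hVT l (fun g => mem_inertia V) ψ h2).2.2] at h3
        exact (Nat.odd_mul.mp h3).2
      obtain ⟨μ, hμ, hμl⟩ := realExt_of_ro (V.subgroupOf T)
        (l.comp (Subgroup.subgroupOfEquivOfLe hVT).toMonoidHom) (fun k => linear_sq V hV2 l _)
        ψ ⟨hψr, hψd⟩ h2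
      have h4 := key (γ * μ.comp (Subgroup.inclusion hPT)) fun v => by
        have e : μ (Subgroup.inclusion hPT ⟨(v : G), hVP v.2⟩) = l v :=
          hμl ((Subgroup.subgroupOfEquivOfLe hVT).symm v)
        rw [MonoidHom.mul_apply, MonoidHom.comp_apply, e]
        exact linear_sq V hV2 l v
      rw [MonoidHom.mul_apply, MonoidHom.comp_apply, map_mul (Subgroup.inclusion hPT),
        map_mul μ, hμ, mul_one] at h4
      exact h4
  · rintro ⟨hn, hsq⟩ χ hd
    obtain ⟨θ, hθ, hθP⟩ := exists_fixed_constituent V P χ hd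
    let l : V →* ℂˣ := linearHom (isCharacter_of_isIrr θ.2) (degree_one_of_comm hVcomm θ)
    set T := inertia V (fun v => (l v : ℂ)) with hTdef
    have hPT : (P : Subgroup G) ≤ T := hθP
    have hVT : V ≤ T := hVP.trans hPT
    haveI : Fintype T := Fintype.ofFinite T
    obtain ⟨ψ, h1, h2⟩ := correspondence_surjective V T hVT l (fun g => mem_inertia V) χ hθ
    have hψd : Odd (charDegree (ψ : T → ℂ)) := by
      have h3 := hd
      rw [← h1, (correspondence V T hVT l (fun g => mem_inertia V) ψ h2).2.2] at h3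
      exact (Nat.odd_mul.mp h3).2
    set PT : Sylow 2 T := P.subtype hPT with hPTdef
    have hsqT : ∀ u : (PT : Subgroup T), u * u ∈ commutator (PT : Subgroup T) :=
      sq_commutator_map (Subgroup.subgroupOfEquivOfLe hPT).symm.toMonoidHom
        (Subgroup.subgroupOfEquivOfLe hPT).symm.surjective hsq
    let π : T →* T ⧸ V.subgroupOf T := QuotientGroup.mk' (V.subgroupOf T)
    have hπ : Function.Surjective π := QuotientGroup.mk'_surjective _
    have hVTk : π.ker = V.subgroupOf T := QuotientGroup.ker_mk' _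
    have hVPT : V.subgroupOf T ≤ (PT : Subgroup T) := fun x hx => hVP hx
    have hcond : Cond (PT.mapSurjective hπ) := by
      refine ⟨?_, sq_commutator_map (π.subgroupMap (PT : Subgroup T))
        (π.subgroupMap_surjective _) hsqT⟩
      rw [Sylow.coe_mapSurjective, ← map_normalizer_of_ker_le π hπ _ (by rw [hVTk]; exact hVPT)]
      congr 1
      refine le_antisymm (fun x hx => ?_) Subgroup.le_normalizer
      have h3 : (x : G) ∈ N := Subgroup.mem_normalizer_fintype fun u hu =>
        (Subgroup.mem_normalizer_iff.mp hx ⟨u, hPT hu⟩).mp hu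
      exact hn.le h3
    have hQ : AllReal (T ⧸ V.subgroupOf T) := (ih T hVT _).2.mpr hcond
    obtain ⟨d, hdet⟩ := exists_det_hom (isCharacter_of_isIrr ψ.2)
    have hext : RealExt (V.subgroupOf T)
        (l.comp (Subgroup.subgroupOfEquivOfLe hVT).toMonoidHom) := by
      refine realExt_of_odd_index (V.subgroupOf T) (PT : Subgroup T) hVPT
        (Nat.odd_iff.mpr (Nat.two_dvd_ne_zero.mp PT.not_dvd_index)) _ (fun t v w e => ?_)
        (fun v => linear_sq V hV2 l _) (d.comp (PT : Subgroup T).subtype)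
        (fun u => linear_sq_of_sq hsqT (d.comp (PT : Subgroup T).subtype) u) (fun v => ?_)
      · refine Units.ext ?_
        have h3 := congrFun (t.2 : conjBy V (fun v => (l v : ℂ)) (t : G) = _)
          (Subgroup.subgroupOfEquivOfLe hVT v)
        refine Eq.trans ?_ h3
        refine congrArg (fun v => (l v : ℂ)) (Subtype.ext ?_)
        have e' := congrArg Subtype.val e
        exact e'
      · exact (det_over _ _ ψ h2 d hdet v).trans (pow_odd_of_sq (linear_sq V hV2 l _) hψd)
    have hψr := real_over π hπ _ hVTk _ hext hQ ψ hψd h2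
    intro g
    rw [← h1]
    exact (real_iff V T hVT l (fun g => mem_inertia V) (linear_sq V hV2 l) ψ h2).mpr hψr g

include hVP hV2 hcomm in
theorem step_two (ih : ∀ T : Subgroup G, V ≤ T → Goal (T ⧸ V.subgroupOf T))
    (ih0 : Goal (G ⧸ V)) :
    roCount G = roCount (Subgroup.normalizer ((P : Subgroup G) : Set G)) ∧
      (AllReal G ↔ Cond P) :=
  ⟨count_two V P hVP hV2 hcomm ih, allReal_two V P hVP hV2 hcomm ih ih0⟩

end CfsgLib.RealOdd
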